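import Cfsg.Agent.LThreeCo1T8.Mat
import Cfsg.Agent.LThreeMB.Fix
import Cfsg.Agent.LThreeMB.Fus
import Cfsg.Agent.LThreeCo1.Ev

/-!
# Elements of order three in the centralizer `3 × A₉` of an element of type `3^8` of `Co₁` (helper456)

Words in the letters `s g x` of `LThreeCo1T8.Mat`: `u8 = s x` of fixed rank 8, `u6`, `u12` of fixed rank 6, 12 in `A₉`.
(lists generated by a script)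
-/

set_option autoImplicit false
set_option maxRecDepth 100000

namespace Cfsg.Agent.H456.Wf.Co1Data

open Cfsg Cfsg.Agent.SporadicStructure.Co0Matrix Cfsg.Agent.CoOneType.CoEval
open Cfsg.Agent.LThreeMB Cfsg.Agent.LThreeMB.Fix Cfsg.Agent.LThreeCo1.Ev
open Cfsg.Agent.LThreeCo1T8.Mat
open Cfsg.Spor (Co1)

/-- the word `[0, 2]` -/
def Q8 : List (List ℤ) := [
  [0, 0, 2, 0, 2, 0, 0, 2, -2, 0, 0, 0, -2, -2, 2, -2, 0, 0, -2, -2, 0, -2, 2, -4],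
  [-4, 0, -2, 0, -2, 0, 0, 2, -2, 0, 0, 0, 2, -2, -2, 2, 0, 0, -2, 2, 0, -2, 2, 0],
  [-2, -2, 0, -2, 0, -2, -2, 0, 0, -2, -2, -2, -4, 0, 0, 0, 2, -2, 0, 0, 2, 0, 0, 2],
  [0, 0, 2, 0, -2, 0, 0, -2, -2, 0, 0, 0, -2, 2, -2, 2, -4, 0, 2, -2, 0, -2, 2, 0],
  [2, -2, 0, -2, 0, 2, 2, 0, 0, 2, -2, 2, 0, 0, 0, 0, -2, -2, -4, 0, 2, 0, 0, 2],
  [0, 0, 2, 0, 2, 0, 0, 2, 2, 0, -4, 0, 2, 2, -2, -2, 0, 0, 2, 2, 0, -2, 2, 0],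
  [0, 0, 2, 0, -2, 0, 0, -2, 2, 0, 0, 0, -2, -2, -2, -2, 0, 0, -2, 2, -4, 2, 2, 0],
  [2, -2, 0, 2, 0, -2, -2, 0, 0, 2, 2, 2, 0, 0, -4, 0, 2, -2, 0, 0, 2, 0, 0, -2],
  [2, 2, 0, -2, 0, -2, 2, 0, 0, -2, 2, 2, 0, 0, 0, 0, 2, -2, 0, 0, -2, -4, 0, 2],
  [0, 0, -2, 0, -2, 0, -4, -2, 2, 0, 0, 0, 2, 2, 2, -2, 0, 0, -2, -2, 0, -2, 2, 0],
  [0, 0, 2, 0, -2, 0, 0, 2, 2, 0, 0, 0, 2, -2, 2, 2, 0, -4, 2, -2, 0, 2, 2, 0],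
  [0, 0, -2, -4, 2, 0, 0, -2, -2, 0, 0, 0, 2, -2, -2, -2, 0, 0, 2, -2, 0, 2, 2, 0],
  [-2, 2, 0, -2, 0, -2, -2, 0, 0, 2, -2, 2, 0, 0, 0, 0, -2, -2, 0, 0, -2, 0, -4, -2],
  [2, 2, 0, 2, 0, 2, -2, 0, -4, 2, -2, -2, 0, 0, 0, 0, 2, -2, 0, 0, -2, 0, 0, 2],
  [-2, -2, 0, 2, 0, -2, 2, 0, 0, 2, -2, 2, 0, 0, 0, 0, 2, 2, 0, -4, -2, 0, 0, 2],
  [2, 2, 0, -2, -4, -2, 2, 0, 0, 2, -2, -2, 0, 0, 0, 0, 2, 2, 0, 0, 2, 0, 0, -2],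
  [0, 0, 2, 0, 2, 0, 0, -2, 2, 0, 0, -4, 2, -2, -2, 2, 0, 0, -2, -2, 0, -2, -2, 0],
  [0, 0, 2, 0, 2, -4, 0, -2, -2, 0, 0, 0, 2, 2, 2, 2, 0, 0, -2, 2, 0, 2, 2, 0],
  [-2, 2, 0, 2, 0, -2, 2, 0, 0, 2, 2, -2, 0, 0, 0, -4, -2, -2, 0, 0, 2, 0, 0, 2],
  [-2, 2, 0, 2, 0, 2, 2, -4, 0, -2, -2, 2, 0, 0, 0, 0, 2, -2, 0, 0, 2, 0, 0, -2],
  [0, 0, 2, 0, -2, 0, 0, 2, -2, -4, 0, 0, 2, 2, -2, -2, 0, 0, -2, -2, 0, 2, -2, 0],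
  [2, 2, 0, 2, 0, -2, -2, 0, 0, -2, -2, 2, 0, -4, 0, 0, -2, 2, 0, 0, 2, 0, 0, 2],
  [2, -2, -4, 2, 0, -2, 2, 0, 0, -2, -2, -2, 0, 0, 0, 0, -2, -2, 0, 0, -2, 0, 0, -2],
  [0, -4, 2, 0, -2, 0, 0, -2, -2, 0, 0, 0, 2, -2, 2, -2, 0, 0, 2, 2, 0, -2, -2, 0]]

/-- fixed vectors and dual vectors of `Q8` -/
def v8 : List (List ℤ × List ℤ) := [
  ([-4, 2, 0, 0, -2, 0, 0, -2, 0, 0, 0, 0, 2, 0, 0, 0, 0, 0, 2, 2, 0, 0, -2, 2],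
   [-2, -2, 2, 4, -2, -2, 0, -2, -4, -2, 0, 0, -2, 0, 2, -2, -4, 2, 4, 0, 2, 4, 0, 4]),
  ([-2, -2, 2, 0, 0, 0, 0, -2, 0, 0, 0, 0, 0, 0, 2, -2, 0, 0, 2, 0, 0, 0, -2, 4],
   [-4, 2, 0, 4, -4, -2, 0, -2, -4, -2, 0, 0, 0, 0, 0, 0, -4, 2, 4, 2, 2, 4, 0, 2]),
  ([-2, 0, 0, -2, 2, 2, 0, -2, 0, 0, -2, 2, 2, 0, 0, -2, 0, 0, 0, 2, 0, 0, -2, 2],
   [-4, 4, 0, 2, -6, -2, 2, 0, 2, -2, 4, -2, 0, -2, -2, 2, 0, -2, 4, 2, 0, 0, 0, 0]),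
  ([-2, 0, 0, 0, 0, 0, -2, 0, -2, 0, 0, 2, 2, 0, 0, -2, -2, 0, 2, 0, 2, 2, -2, 2],
   [-4, 4, -2, 4, -4, 0, 2, -2, -2, -2, 0, 0, 0, 0, -2, 0, -4, 0, 4, 4, 0, 2, 2, 0]),
  ([-2, 0, 0, 2, -2, 0, 0, 0, 0, 0, 2, 0, 0, 0, 0, -2, -2, -2, 4, 0, 0, 0, 0, 2],
   [-4, 0, 2, 0, 0, 4, 2, -4, 2, 0, -2, -2, 0, 2, 0, -2, 2, -2, 2, 4, -2, -4, -2, 4]),
  ([-2, 0, 0, 2, 0, 2, 0, -2, -2, 0, -2, 0, 0, 2, 0, -2, -2, 0, 2, 2, 0, 0, 0, 2],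
   [-4, 0, 0, 2, 0, 2, 2, -4, -2, -2, -2, 2, 0, 0, 0, -4, -4, 0, 4, 4, 0, 2, 0, 4]),
  ([-2, 0, 2, 0, -2, 0, 0, 0, 2, 0, 2, -2, 0, 0, 0, 0, 2, -2, 2, 0, 0, -2, -2, 2],
   [-4, 4, -2, 0, 0, 2, -2, -2, -4, 0, -4, 2, 4, 2, -2, 0, -2, 2, 0, 4, 2, 2, -2, 0]),
  ([-2, 0, 2, 2, -2, 0, 2, -2, 0, -2, 0, -2, -2, 0, 0, 0, 0, 0, 2, 2, 0, 0, 0, 2],
   [-4, 4, -2, 0, 0, 4, 2, -4, 0, 0, -4, 0, 2, 2, -2, 0, 0, 0, 0, 6, -2, -2, 0, 0])]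

/-- the word `[0, 1, 0, 4, 4, 3, 4, 4]` -/
def Q6 : List (List ℤ) := [
  [-1, -1, -3, -1, -1, 1, 1, 1, -1, 1, -3, 3, 1, -1, -3, -1, 3, 1, -1, 1, 1, -1, 1, -1],
  [-1, -1, 1, 3, -1, -3, 1, -3, -1, 1, 1, -1, 1, -1, 1, -1, 3, 1, -1, 1, 1, -1, -3, -1],
  [3, -1, -3, -1, -1, -3, 1, 1, -1, 1, 1, -1, 1, -1, 1, -1, -1, -3, -1, 1, 1, 3, 1, -1],
  [1, -3, -1, -3, 1, -1, -1, -1, 1, -1, -1, 1, -1, 1, 3, 1, 1, -1, 1, -1, -1, -3, -1, -3],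
  [1, 1, -1, 1, -3, -1, -1, 3, 1, -1, -1, 1, -1, -3, 3, 1, 1, 3, 1, -1, -1, 1, -1, 1],
  [1, -3, 3, 1, 1, -1, -1, 3, 1, -1, -1, 1, 3, 1, -1, 1, 1, -1, -3, -1, -1, 1, -1, 1],
  [-1, -1, 1, -1, -1, 1, 5, 1, -1, -3, 1, -1, 1, -1, 1, -1, -1, 1, -1, 1, -3, -1, 1, -1],
  [1, -3, -1, 1, -3, 3, -1, -1, 1, -1, -1, -3, -1, 1, -1, -3, 1, -1, 1, -1, -1, 1, -1, 1],
  [-1, -1, 1, -1, -1, 1, 1, 1, -1, 1, 1, 3, 1, 3, 1, -1, -1, 1, 3, 1, 1, 3, -3, -1],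
  [-1, -1, 1, -1, -1, 1, -3, 1, -1, 5, 1, -1, 1, -1, 1, -1, -1, 1, -1, 1, -3, -1, 1, -1],
  [-3, 1, -1, 1, 1, -1, -1, -1, 1, -1, -1, 1, 3, 1, 3, -3, 1, -1, 1, -1, -1, 1, 3, 1],
  [-3, 1, -1, 1, 1, -1, -1, 3, -3, -1, -1, -3, -1, 1, -1, 1, 1, -1, 1, -1, -1, 1, -1, -3],
  [-1, -1, 1, -1, -1, -3, 1, 1, -1, 1, -3, -1, -3, 3, 1, -1, -1, 1, -1, 1, 1, -1, 1, 3],
  [-1, -1, 1, -1, 3, 1, 1, 1, 3, 1, 1, -1, -3, -1, 1, -1, 3, 1, -1, 1, 1, 3, 1, -1],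
  [-3, 1, -1, -3, -3, -1, -1, -1, 1, -1, 3, 1, -1, 1, -1, 1, 1, -1, -3, -1, -1, 1, -1, 1],
  [1, 1, -1, 1, 1, -1, -1, 3, 1, -1, 3, 1, -1, 1, -1, -3, 1, -1, 1, 3, -1, -3, -1, 1],
  [-3, -3, -1, 1, 1, -1, -1, -1, 1, -1, -1, 1, -1, -3, -1, 1, -3, -1, 1, 3, -1, 1, -1, 1],
  [1, 1, 3, 1, -3, -1, -1, -1, 1, -1, -1, 1, -1, 1, -1, 1, 1, -1, 1, 3, -1, 1, 3, -3],
  [1, 1, -1, 1, 1, 3, -1, -1, -3, -1, -1, 1, -1, 1, 3, 1, 1, -1, -3, 3, -1, 1, -1, 1],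
  [1, 1, -1, 1, 1, -1, -1, -1, 1, -1, -1, 1, -1, 1, -1, -3, -3, 3, -3, -1, -1, 1, -1, -3],
  [-1, -1, 1, -1, -1, 1, -3, 1, -1, -3, 1, -1, 1, -1, 1, -1, -1, 1, -1, 1, 5, -1, 1, -1],
  [-1, -1, -3, 3, -1, 1, 1, 1, 3, 1, 1, -1, 1, 3, 1, 3, -1, 1, -1, 1, 1, -1, 1, -1],
  [-1, 3, 1, -1, -1, 1, 1, 1, 3, 1, -3, -1, 1, -1, 1, -1, -1, -3, -1, 1, 1, -1, -3, -1],
  [-1, -1, 1, 3, -1, 1, 1, 1, -1, 1, 1, 3, -3, -1, 1, -1, -1, -3, -1, -3, 1, -1, 1, -1]]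

/-- fixed vectors and dual vectors of `Q6` -/
def v6 : List (List ℤ × List ℤ) := [
  ([-3, 1, -1, 1, 1, -1, -1, -1, 1, -1, 3, 1, -1, 1, 3, 1, 1, -1, 1, -1, -1, 1, -1, 1],
   [-3, 3, 1, -1, -1, -3, 3, -3, -1, -3, 3, -1, 1, -1, 3, -1, -1, -1, -1, -1, 3, -1, 1, 1]),
  ([-3, 1, 1, -1, -1, -1, 1, -1, 1, 1, 3, -1, 1, 1, 3, -1, -1, -1, -1, -1, 1, 1, 1, 1],
   [-3, 3, -1, 1, 1, -3, 1, -3, -1, -5, 3, 1, -1, -1, 3, 1, 1, -1, 1, -1, 1, -1, -1, 1]),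
  ([-2, -2, 0, 0, 0, 2, 0, 2, 2, 0, 2, 0, 0, 2, 2, 0, 0, -2, 0, -2, 0, 2, 0, 2],
   [-2, 0, -2, 2, 2, 0, 0, 0, 0, -6, 2, 2, -2, 0, 2, 2, 2, -2, 2, -2, 0, 0, -2, 2]),
  ([-2, 0, 0, 0, 0, 0, -4, 0, 2, 2, 2, 0, 0, 2, 2, 0, 0, 0, 0, 0, 2, 2, 0, 0],
   [-4, 0, 0, 0, 0, 0, 0, 0, 0, 0, 4, 0, 0, 0, 4, 0, 0, -4, 0, -4, 0, 0, 0, 4]),
  ([-2, 0, 0, 0, 0, 0, -2, 0, 0, 4, 2, 0, 0, 0, 2, 0, 0, -2, 0, -2, -2, 0, 0, 2],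
   [-4, 0, 0, 0, 0, 0, -2, 0, 2, -2, 4, 0, 0, 2, 4, 0, 0, -2, 0, -2, 4, 2, 0, 2]),
  ([-2, 0, 0, 0, 0, 0, 2, 0, 0, -4, 2, 0, 0, 0, 2, 0, 0, -2, 0, -2, 2, 0, 0, 2],
   [-2, -2, -2, 2, 2, 2, 0, 2, 0, 0, 2, 2, -2, 0, 2, 2, 2, -4, 2, -4, -6, 0, -2, 4])]

/-- the word `[0, 1, 0, 1, 1, 3, 4, 3, 4, 4]` -/
def Q12 : List (List ℤ) := [
  [4, 0, 2, 0, 0, 2, 2, -2, 0, -2, -2, 0, 2, 0, 2, 0, 0, 2, 0, -2, -2, 0, 2, 0],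
  [0, 4, 2, 0, 0, -2, -2, 2, 0, 2, 2, 0, 2, 0, -2, 0, 0, 2, 0, -2, -2, 0, 2, 0],
  [0, 0, 2, 0, 0, 2, 2, 2, 0, -2, 2, 0, -2, 0, -2, 0, 0, 2, 0, 2, -2, 4, -2, 0],
  [0, 0, 2, 4, 0, -2, -2, -2, 0, -2, 2, 0, -2, 0, 2, 0, 0, -2, 0, -2, -2, 0, -2, 0],
  [-2, -2, 0, -2, 2, 0, 0, 0, -2, 0, 0, -2, 0, 2, 0, -2, -2, 0, -2, 0, -4, -2, 0, 2],
  [2, 2, 0, -2, 2, 0, 0, 0, 2, 0, 0, 2, 0, -2, 0, 2, -2, 0, -2, 0, 0, -2, -4, 2],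
  [2, -2, 0, 2, 2, 0, 0, 0, 2, 0, 0, -2, 0, 2, -4, 2, -2, 0, 2, 0, 0, -2, 0, -2],
  [0, 0, 2, 0, 0, 2, -2, 2, 0, 2, -2, 0, 2, 0, 2, 0, 0, -2, 4, 2, -2, 0, -2, 0],
  [2, -2, 0, -2, -2, -4, 0, 0, 2, 0, 0, 2, 0, 2, 0, -2, -2, 0, 2, 0, 0, 2, 0, 2],
  [-2, 2, 0, -2, 2, 0, 0, -4, -2, 0, 0, 2, 0, 2, 0, 2, -2, 0, 2, 0, 0, 2, 0, -2],
  [2, 2, -4, 2, 2, 0, 0, 0, -2, 0, 0, -2, 0, -2, 0, -2, -2, 0, 2, 0, 0, 2, 0, 2],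
  [0, 0, -2, 0, 0, 2, -2, 2, 0, -2, -2, 4, -2, 0, -2, 0, 0, -2, 0, -2, -2, 0, 2, 0],
  [0, 0, -2, 0, 0, 2, -2, 2, 0, -2, 2, 0, 2, 4, 2, 0, 0, 2, 0, -2, 2, 0, -2, 0],
  [2, 2, 0, -2, 2, 0, 0, 0, 2, 0, 0, -2, 0, 2, 0, -2, 2, -4, -2, 0, 0, 2, 0, -2],
  [0, 0, -2, 0, 0, -2, 2, 2, 0, -2, 2, 0, 2, 0, 2, 4, 0, -2, 0, 2, -2, 0, 2, 0],
  [2, -2, 0, -2, -2, 0, -4, 0, -2, 0, 0, -2, 0, -2, 0, 2, -2, 0, -2, 0, 0, 2, 0, -2],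
  [0, 0, -2, 0, 0, -2, -2, -2, 0, -2, -2, 0, 2, 0, -2, 0, 4, 2, 0, 2, -2, 0, -2, 0],
  [2, 2, 0, -2, -2, 0, 0, 0, -2, 0, 0, -2, -4, 2, 0, 2, 2, 0, 2, 0, 0, -2, 0, 2],
  [-2, 2, 0, -2, -2, 0, 0, 0, 2, -4, 0, -2, 0, -2, 0, -2, -2, 0, 2, 0, 0, -2, 0, -2],
  [0, 0, 2, 0, 4, -2, -2, 2, 0, -2, -2, 0, -2, 0, 2, 0, 0, 2, 0, 2, 2, 0, 2, 0],
  [-2, -2, 0, -2, 2, 0, 0, 0, 2, 0, 0, -2, 0, -2, 0, 2, 2, 0, 2, -4, 0, 2, 0, 2],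
  [-2, 2, 0, 2, -2, 0, 0, 0, 2, 0, -4, -2, 0, 2, 0, 2, -2, 0, -2, 0, 0, 2, 0, 2],
  [0, 0, -2, 0, 0, 2, -2, -2, 4, 2, 2, 0, -2, 0, 2, 0, 0, 2, 0, 2, -2, 0, 2, 0],
  [0, 0, 2, 0, 0, 2, -2, -2, 0, -2, 2, 0, 2, 0, -2, 0, 0, -2, 0, 2, 2, 0, 2, 4]]

/-- fixed vectors and dual vectors of `Q12` -/
def v12 : List (List ℤ × List ℤ) := [
  ([-6, -2, 0, 0, 2, -2, 2, 0, 0, 2, 0, -2, -2, 0, -2, -2, -2, -2, 2, 0, 2, 0, -2, -2],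
   [5, 5, 1, 7, -1, -1, -1, 1, -3, -3, 3, -1, 3, 1, 3, -1, 3, 1, -1, -1, -5, -1, -1, -1]),
  ([-6, 2, 0, -2, 0, -2, -2, 0, -2, 2, 0, -2, -2, -2, -2, 0, 2, 2, 2, 2, 2, 0, 0, 0],
   [-7, 1, 1, -7, 5, 1, -3, 3, -3, 7, -3, -1, -1, 3, 1, 5, -3, -1, -5, 5, 1, 5, 1, -1]),
  ([-4, -4, 0, 0, 2, -2, 0, 0, -2, 0, -2, 0, -4, -2, 0, 0, 2, 0, 0, 4, 0, -2, 0, -2],
   [2, 0, 4, 0, 2, 2, 2, 2, -2, -2, 0, 0, -2, -2, -2, -2, 0, 2, 2, 2, -2, -4, -2, 0]),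
  ([-4, -2, -2, 0, -2, -4, 0, -2, 2, 0, 0, -4, 0, 0, 0, 0, 2, 0, 2, 0, 4, 2, 0, 0],
   [-2, 6, 0, 2, 0, 0, -2, 2, 0, 2, 2, 2, 2, 2, 0, -2, -2, -2, 0, -2, -2, 2, 0, 0]),
  ([-4, -2, 0, 2, -2, -2, 0, -2, 0, 2, -2, 0, -2, 0, -2, 2, 0, -2, -2, -2, 2, 4, -2, -2],
   [4, 0, 2, -2, 0, 0, 4, -2, 0, 0, 0, -4, -2, 0, -2, 0, 0, 4, 2, 0, 0, -2, 0, -2]),
  ([-4, 0, -2, -4, 0, 0, 0, -2, 0, 4, 0, -2, 0, 0, -2, 2, -2, 0, 0, -2, 4, 2, 0, 0],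
   [-1, -3, -3, -1, -1, -1, -1, 1, 1, -1, 1, -3, 3, -1, 5, 3, -1, -1, 1, 1, 3, 1, 1, 1]),
  ([-4, 0, -2, -2, -2, 0, -4, 0, 0, 0, 0, 0, 2, -2, 0, 2, 2, 0, 0, 0, 4, 2, 0, 4],
   [-7, 5, -1, -9, 7, -1, -3, 3, -3, 9, -1, -3, -1, 5, 3, 3, -3, 1, -3, 7, -1, 3, 5, -3]),
  ([-4, 0, -2, 0, 2, 0, 0, 0, 0, 4, 0, 2, 0, 2, 0, 0, -4, -4, -2, -2, 0, 2, 0, -2],
   [-11, -5, -1, 1, 5, -3, -3, -1, -5, 3, -3, 1, -5, -1, -1, 1, 3, -3, -5, 5, 1, 1, -1, -1]),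
  ([-3, -1, -3, 3, 1, -1, 1, -3, -3, 1, 3, -1, -1, -3, -1, -1, -1, -1, 1, -3, 1, -3, -1, -1],
   [-4, -4, -2, 0, 0, 0, 0, 0, 2, 0, 0, 0, 2, 0, 0, 0, -2, -4, 0, -2, 4, 2, -2, 2]),
  ([-3, -1, -1, -1, 1, -1, 1, -1, 3, -1, 1, -1, 1, 1, -3, -5, 1, -1, 3, -1, 3, -1, -1, 3],
   [-8, -4, -4, -4, 0, 0, 0, -2, 2, 4, 0, -2, 2, 0, -2, 2, -4, -4, 0, -4, 8, 4, -2, 2]),
  ([-3, -1, -1, 1, 5, -3, 1, -1, -1, 1, 1, -3, -1, 3, 1, -3, 1, -1, -1, 3, -1, -1, 1, -1],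
   [-6, 2, 0, 0, 4, -2, 2, 0, -2, 6, 0, 0, -4, 2, -2, -2, -4, -2, 0, 0, -2, 0, 0, -6]),
  ([-3, 1, -1, -1, -1, 1, -1, -1, -3, 3, 1, 1, -3, -5, -1, 3, -3, 1, 1, -1, 1, -1, 1, -1],
   [-6, -2, 0, 0, 2, -2, 2, 0, 0, 2, 0, -2, -2, 0, -2, -2, -2, -2, 2, 0, 2, 0, -2, -2])]


theorem eq_word {e : ℕ → Co0} {M : ℕ → List (List ℤ)} (rep : ∀ i, Rep (e i) (M i)) {Q C : List (List ℤ)} (ok : Ok Q C)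
    {w : List ℕ} (h : eqL (apZ Q betaL) (foldZ M w betaL) = true) : mk ok = (w.map e).prod := by
  have h2 := (fold_spec rep w (l := betaL) (v := beta) (by decide) rfl).2
  have h1 := (rep_mk ok).apply (v := beta) (l := betaL) (by decide) rfl
  rw [apZ_eq, foldZ_eq] at h
  rw [eqL_eq h, ← h2] at h1
  exact eq_of_fix (Subtype.ext h1)

theorem rep_word {e : ℕ → Co0} {M : ℕ → List (List ℤ)} (rep : ∀ i, Rep (e i) (M i)) {Q C : List (List ℤ)} (ok : Ok Q C)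
    {w : List ℕ} (h : eqL (apZ Q betaL) (foldZ M w betaL) = true) : Rep ((w.map e).prod) Q := by
  rw [← eq_word rep ok h]
  exact rep_mk ok

/-- the words -/
def w0 : List ℕ := [0]
@[inherit_doc w0] def w8 : List ℕ := [0, 2]
@[inherit_doc w0] def w6 : List ℕ := [0, 1, 0, 4, 4, 3, 4, 4]
@[inherit_doc w0] def w12 : List ℕ := [0, 1, 0, 1, 1, 3, 4, 3, 4, 4]

theorem ok8 : Ok Q8 (tr Q8) := Cfsg.Agent.CoOneType.CoFast.ok_of_okZ (by decide +kernel)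
theorem ok6 : Ok Q6 (tr Q6) := Cfsg.Agent.CoOneType.CoFast.ok_of_okZ (by decide +kernel)
theorem ok12 : Ok Q12 (tr Q12) := Cfsg.Agent.CoOneType.CoFast.ok_of_okZ (by decide +kernel)

theorem rep0 : Rep ((w0.map e).prod) rS := by
  have h : (w0.map e).prod = e 0 := by simp [w0]
  rw [h]
  exact rep 0

theorem rep8 : Rep ((w8.map e).prod) Q8 := rep_word rep ok8 (by decide +kernel)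
theorem rep6 : Rep ((w6.map e).prod) Q6 := rep_word rep ok6 (by decide +kernel)
theorem rep12 : Rep ((w12.map e).prod) Q12 := rep_word rep ok12 (by decide +kernel)

theorem fr0 : fr (QuotientGroup.mk (w0.map e).prod : Co1) = 1 := by
  have h := card_fix rep0 (vw := []) rfl rfl rfl (by decide +kernel)
  rwa [List.length_nil, pow_zero] at h

theorem fr8 : fr (QuotientGroup.mk (w8.map e).prod : Co1) = 2 ^ 8 :=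
  card_fix rep8 (vw := v8) (by decide +kernel) (by decide +kernel) (by decide +kernel) (by decide +kernel)

theorem fr6 : fr (QuotientGroup.mk (w6.map e).prod : Co1) = 2 ^ 6 :=
  card_fix rep6 (vw := v6) (by decide +kernel) (by decide +kernel) (by decide +kernel) (by decide +kernel)

theorem fr12 : fr (QuotientGroup.mk (w12.map e).prod : Co1) = 2 ^ 12 :=
  card_fix rep12 (vw := v12) (by decide +kernel) (by decide +kernel) (by decide +kernel) (by decide +kernel)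

/-! ### Orders -/

theorem k8 : relB M (w8 ++ w8 ++ w8) = true := by decide +kernel
theorem k6 : relB M (w6 ++ w6 ++ w6) = true := by decide +kernel
theorem k12 : relB M (w12 ++ w12 ++ w12) = true := by decide +kernel
theorem n8 : neB M w8 = true := by decide +kernel
theorem n6 : neB M w6 = true := by decide +kernel
theorem n12 : neB M w12 = true := by decide +kernel

/-! ### They do not centralize `A₉` : commutators with `s` or `g s g⁻¹` -/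

/-- `t = g s g⁻¹` -/
def tw : List ℕ := [1, 0, 4]

/-- `t⁻¹` -/
def ti : List ℕ := [1, 3, 4]

/-- the inverses of the words -/
def i0 : List ℕ := [3]
@[inherit_doc i0] def i8 : List ℕ := [5, 3]
@[inherit_doc i0] def i6 : List ℕ := [1, 1, 0, 1, 1, 3, 4, 3]
@[inherit_doc i0] def i12 : List ℕ := [1, 1, 0, 1, 0, 4, 4, 3, 4, 3]

theorem v0c : relB M (w0 ++ i0) = true := by decide +kernel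
theorem v8c : relB M (w8 ++ i8) = true := by decide +kernel
theorem v6c : relB M (w6 ++ i6) = true := by decide +kernel
theorem v12c : relB M (w12 ++ i12) = true := by decide +kernel
theorem vtc : relB M (tw ++ ti) = true := by decide +kernel

theorem c0 : neB M (w0 ++ tw ++ i0 ++ ti) = true := by decide +kernel
theorem c8 : neB M (w8 ++ tw ++ i8 ++ ti) = true := by decide +kernel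
theorem c6 : neB M (w6 ++ tw ++ i6 ++ ti) = true := by decide +kernel
theorem c12 : neB M (w12 ++ tw ++ i12 ++ ti) = true := by decide +kernel

end Cfsg.Agent.H456.Wf.Co1Data
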